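import Cfsg.Agent.H44.Cov.Main
import Cfsg.Agent.H379.CV.SUEng
import Cfsg.Agent.H379.CV.Fin

/-!
# The engines `EngSU`, `EngPSU` of helper44 from the class form `ClsSU` of helper379 (helper72, for S3442)
-/

set_option autoImplicit false

namespace Cfsg.Agent.H72.CVP

open Polynomial Cfsg Cfsg.Agent.H373.CV Cfsg.Agent.H379.SUD Cfsg.Agent.H379.CV

universe u

variable {F : Type} [Field F] [Fintype F]

/-- `EngFix` from the class form -/
theorem engFix_of {p n q f : ℕ} [Fact p.Prime] [CharP F p] (hn : 0 < n) (h : ClsSU.{u} p n q f F) :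
    EngFix.{u} p n q F := fun x hx θ g hxθ hb => h.fixAll hn x hx θ g hxθ hb

/-- **`EngSU` from the class form** -/
theorem engSU_of {p n q f : ℕ} [Fact p.Prime] [CharP F p] (hn : 0 < n) (h : ClsSU.{u} p n q f F) :
    H44.Cov.EngSU.{u} F p n q := fun x hx t ht hb W _ _ _ hW φ => (engFix_of hn h).eng x hx t ht hb W hW φ

/-- an element of order dividing `gcd (n, q + 1)` in a field of order `q ^ 2` -/
theorem exists_root {n q : ℕ} (hF : Fintype.card F = q ^ 2) :
    ∃ z : F, z ^ n = 1 ∧ z ^ (q + 1) = 1 ∧ ∀ m : ℕ, z ^ m = 1 → Nat.gcd n (q + 1) ∣ m := by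
  have h1 : Nat.gcd n (q + 1) ∣ Nat.card Fˣ := by
    rw [Nat.card_units, Nat.card_eq_fintype_card, hF]
    refine (Nat.gcd_dvd_right _ _).trans ⟨q - 1, ?_⟩
    have : q ^ 2 - 1 = (q + 1) * (q - 1) := by
      have := Nat.sq_sub_sq q 1
      rwa [one_pow] at this
    exact this
  obtain ⟨y, hy⟩ := IsCyclic.exists_generator (α := Fˣ)
  have hyo : orderOf y = Nat.card Fˣ := orderOf_eq_card_of_forall_mem_zpowers hy
  obtain ⟨k, hk⟩ := h1
  have hc : 0 < Nat.card Fˣ := Nat.card_pos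
  have hk0 : k ≠ 0 := by
    rintro rfl
    rw [mul_zero] at hk
    omega
  have hz : orderOf (y ^ k) = Nat.gcd n (q + 1) := by
    rw [orderOf_pow_of_dvd hk0 (by rw [hyo, hk]; exact Dvd.intro_left _ rfl), hyo, hk,
      Nat.mul_div_cancel _ (Nat.pos_of_ne_zero hk0)]
  have h2 : ∀ m : ℕ, ((y ^ k : Fˣ) : F) ^ m = 1 ↔ Nat.gcd n (q + 1) ∣ m := by
    intro m
    rw [← hz, orderOf_dvd_iff_pow_eq_one, Units.ext_iff, Units.val_one, Units.val_pow_eq_pow_val (y ^ k) m]
  exact ⟨((y ^ k : Fˣ) : F), (h2 n).2 (Nat.gcd_dvd_left _ _), (h2 (q + 1)).2 (Nat.gcd_dvd_right _ _), fun m => (h2 m).1⟩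

/-- **`EngPSU` from the class form** -/
theorem engPSU_of {p n : ℕ} [hp : Fact p.Prime] [CharP F p] (hF : Fintype.card F = p ^ 2) (hn : 0 < n)
    (h : ClsSU.{u} p n p 1 F) : H44.Cov.EngPSU.{u} F p n := by
  intro x hx t ht hb W _ _ _ hW φ
  have hcK : CharP (AlgebraicClosure F) p :=
    charP_of_injective_algebraMap (algebraMap F (AlgebraicClosure F)).injective p
  have hpx : ¬ p ∣ orderOf x := fun h6 => (Nat.Prime.coprime_iff_not_dvd hp.out).1 hx.symm h6
  have hr : ((orderOf x : ℕ) : AlgebraicClosure F) ≠ 0 := by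
    rw [Ne, CharP.cast_eq_zero_iff (AlgebraicClosure F) p]
    exact hpx
  have hM : ((x : Matrix.SpecialLinearGroup (Fin n) F).1.map (algebraMap F (AlgebraicClosure F))) ^ orderOf x = 1 := by
    have h1 : ((x : Matrix.SpecialLinearGroup (Fin n) F).1) ^ orderOf x = 1 := by
      rw [← Matrix.SpecialLinearGroup.coe_pow, ← Subgroup.coe_pow, pow_orderOf_eq_one]
      rfl
    have h2 := congrArg (algebraMap F (AlgebraicClosure F)).mapMatrix h1
    rw [map_pow, map_one] at h2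
    exact h2
  obtain ⟨g, hg⟩ := exists_conj_diag hr hM t ((Matrix.charpoly_map _ _).trans ht)
  let _ : Module (ZMod p) W := AddCommGroup.zmodModule (n := p) hW
  let ρ : SU n F p →* (W ≃ₗ[ZMod p] W) := linOf (φ.comp (QuotientGroup.mk' _))
  have hρ : ∀ (y : SU n F p) (w : W), ρ y w = φ (QuotientGroup.mk y) w := fun y w => rfl
  obtain ⟨c, hc1, hc2⟩ := h W ρ
  obtain ⟨z, hz1, hz2, hz3⟩ := exists_root (F := F) (n := n) hF
  have hc0 := hc1 (by
    intro y hy
    ext w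
    rw [hρ]
    have : (QuotientGroup.mk y : PSU n F p) = 1 := (QuotientGroup.eq_one_iff y).2 hy
    rw [this, map_one]
    rfl) z hz1 hz2
  rw [Finset.sum_range_one, pow_zero, one_mul] at hc0
  have hg0 := hz3 _ hc0
  obtain ⟨J, hJ1, hJ2⟩ := hb (c 0 % n) (Nat.mod_lt _ hn).le ((Nat.dvd_mod_iff (Nat.gcd_dvd_left _ _)).2 hg0)
  obtain ⟨w, hw0, hw⟩ := hc2 x t g hg hpx (fun _ => J) (by
    intro a ha
    have : a = 0 := by omega
    subst this
    show J.card ≡ c 0 [MOD n]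
    rw [hJ1]
    exact Nat.mod_modEq _ _) (by
    rw [Finset.prod_range_one, hJ2, one_pow])
  exact ⟨w, hw0, hw⟩

end Cfsg.Agent.H72.CVP
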